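import Groth.Agent.RelPCSchLib.CompDeg
import Groth.Agent.RelPCSchLib.Immersion
import Groth.Agent.RelFlatLib.SmoothAmp
import Groth.Agent.Dual3Lib.PerfPush

/-!
# Perfect closed immersions have perfect direct image of the structure sheaf
-/

set_option autoImplicit false
set_option linter.all false
set_option backward.isDefEq.respectTransparency false
set_option backward.isDefEq.respectTransparency.types false
set_option maxHeartbeats 1000000

universe u

open CategoryTheory CategoryTheory.Limits AlgebraicGeometry
open Groth.Agent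
open Groth.Agent.PerfLib (isPC_of_iso)

attribute [local instance] HasDerivedCategory.standard

noncomputable section

namespace PerfPushLib

variable {X S : Scheme.{u}} (f : X ⟶ S)

/-- A pseudo-coherent morphism has relatively pseudo-coherent structure sheaf. -/
theorem nPC_of_pseudoCoherentMor [LocallyOfFiniteType f] (hf : MoreMor.IsPseudoCoherentMor f) (k : ℤ) :
    DerSch.IsNPseudoCoherent f k := by
  refine RelPCSchLib.rel_of_rpc f fun U V hUV => ?_
  letI := (f.appLE (V : S.Opens) (U : X.Opens) hUV).hom.toAlgebra
  obtain ⟨n, φ, hφ, hpc⟩ := hf U V U.2 V.2 hUV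
  have hC : φ.toRingHom.comp MvPolynomial.C = (f.appLE (V : S.Opens) (U : X.Opens) hUV).hom :=
    RingHom.ext fun r => φ.commutes r
  refine RelPCSchLib.rpc_of_cpc f U.2 φ.toRingHom hφ hC
    ((RelPCSchLib.cpc_unit_iff U.2 φ.toRingHom hφ k).2 ?_)
  show RelPCLib.PV _ k _
  letI := φ.toRingHom.toAlgebra
  exact (RelPCLib.pv_module_iff φ.toRingHom k (ModuleCat.of Γ(X, U) Γ(X, U))).2
    (DRingLib.isPseudoCoherent'_iff_forall.1 hpc k)

/-- The direct image of the structure sheaf under a perfect closed immersion is perfect. -/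
theorem isPerfect_push_structureSheaf (i : X ⟶ S) [IsClosedImmersion i] (hi : MoreMor.IsPerfectMor i) :
    DCoh.IsPerfect (DCoh.inD S ((Scheme.Modules.pushforward i).obj (Coh.structureModule X))) := by
  have h : DCoh.IsPerfect (DCoh.toD S (((Scheme.Modules.pushforward i).mapHomologicalComplex
      (ComplexShape.up ℤ)).obj (DerSch.unitCx X))) := by
    refine RelFlatLib.isPerfect_push i (𝟙 S) (DerSch.unitCx X) (fun m => ?_) fun x => ?_
    · exact (RelPCSchLib.rel_immersion_comp_iff i (𝟙 S) m (DerSch.unitCx X)).1.1
        (by rw [Category.comp_id]; exact nPC_of_pseudoCoherentMor i (fun U V hU hV h => (hi U V hU hV h).1) m)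
    · obtain ⟨U, d, hxU, hU⟩ := Dual3Lib.exists_torDim_nhd i hi x
      rw [Category.comp_id]
      exact ⟨U, -(d : ℤ), 0, hxU, fun z hz => hU z hz⟩
  refine PerfLib.isPerfect_of_iso ?_ h
  exact DerivedCategory.Q.mapIso ((HomologicalComplex.singleMapHomologicalComplex
      (Scheme.Modules.pushforward i) (ComplexShape.up ℤ) 0).app (Coh.structureModule X)) ≪≫
    ((DerivedCategory.singleFunctorIsoCompQ S.Modules 0).app _).symm

end PerfPushLib
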